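import Cfsg.Agent.Helper79.Samb.Diag
import Cfsg.Agent.Helper97.SambCOUNT

/-!
S4575 (Sambale: `k(B) - l(b) ≤ 3 ⇒ k(B) ≤ 2^d`): the abstract count, assembled from
(DIAG) and (COUNT).
-/

set_option autoImplicit false
set_option linter.style.haveILetI false
set_option linter.unusedSectionVars false
set_option linter.unusedVariables false

noncomputable section

namespace Cfsg.Agent.Helper79.Samb

open Cfsg
open scoped ComplexConjugate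
open Cfsg.Agent.Helper78.Olsson (unitsRange)

/-- the abstract form of Sambale's bound: a "contribution matrix" `m` of trace `2^d l` on a set `S`
of size at most `l + 3`, with the valuation properties of a major subsection. -/
theorem card_le_of_contrib {M : Ideal AlgInt} (hM : IsPModular 2 M) (n : ℕ) (hn : 1 ≤ n)
    {K : Type*} [Fintype K] [DecidableEq K] (S T0 : Finset K) (hT0 : T0 ⊆ S)
    (hT0ne : T0.Nonempty) (d l : ℕ) {ι : Type*} [Fintype ι]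
    (A : K → K → ι → ℤ) (μ : K → K → ι → ℂ) (hμ : ∀ χ ψ i, μ χ ψ i ^ (2 ^ n) = 1)
    (m : ℕ → K → K → ℂ) (hm : ∀ γ χ ψ, m γ χ ψ = ∑ i, (A χ ψ i : ℂ) * μ χ ψ i ^ γ)
    (hreal : ∀ γ χ, conj (m γ χ χ) = m γ χ χ)
    (hrow : ∀ γ ∈ unitsRange 2 n, ∀ χ ∈ S,
      ∑ ψ ∈ S, m γ χ ψ * conj (m γ χ ψ) = ((2 ^ d : ℕ) : ℂ) * m γ χ χ)
    (htr : ∀ γ ∈ unitsRange 2 n, ∑ χ ∈ S, m γ χ χ = ((2 ^ d : ℕ) : ℂ) * (l : ℂ))
    (hnz1 : ∀ γ ∈ unitsRange 2 n, ∀ χ ∈ T0, ∀ ψ ∈ S, m γ χ ψ ≠ 0)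
    (hnz2 : ∀ γ ∈ unitsRange 2 n, ∀ χ ∈ S, ∀ ψ ∈ T0, m γ χ ψ ≠ 0)
    (hunit : ∀ γ ∈ unitsRange 2 n, ∀ χ ∈ T0, ¬ MemLocalIdeal M (m γ χ χ))
    (hhalf : ∀ γ ∈ unitsRange 2 n, ∀ χ ∈ S, χ ∉ T0 → MemLocalIdeal M (m γ χ χ / 2))
    (hk : S.card ≤ l + 3) : S.card ≤ 2 ^ d := by
  classical
  by_cases hk1 : S.card ≤ 1
  · exact le_trans hk1 Nat.one_le_two_pow
  rw [not_le] at hk1
  set r : ℕ → K → ℝ := fun γ χ => (m γ χ χ).re with hrdef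
  have hr : ∀ γ χ, m γ χ χ = (r γ χ : ℂ) := by
    intro γ χ
    exact (Complex.conj_eq_iff_re.mp (hreal γ χ)).symm
  have hrowR : ∀ γ ∈ unitsRange 2 n, ∀ χ ∈ S,
      ∑ ψ ∈ S, Complex.normSq (m γ χ ψ) = (2 : ℝ) ^ d * r γ χ := by
    intro γ hγ χ hχ
    apply Complex.ofReal_injective
    have h := hrow γ hγ χ hχ
    simp only [Complex.mul_conj] at h
    rw [Complex.ofReal_sum, h, hr γ χ]
    push_cast
    ring
  have htrR : ∀ γ ∈ unitsRange 2 n, ∑ χ ∈ S, r γ χ = (2 : ℝ) ^ d * (l : ℝ) := by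
    intro γ hγ
    apply Complex.ofReal_injective
    have h := htr γ hγ
    rw [Complex.ofReal_sum]
    rw [← Finset.sum_congr rfl (fun χ _ => hr γ χ), h]
    push_cast
    ring
  -- an off-diagonal non-zero entry in every row
  have hoff : ∀ γ ∈ unitsRange 2 n, ∀ χ ∈ S, ∃ ψ ∈ S, ψ ≠ χ ∧ m γ χ ψ ≠ 0 := by
    intro γ hγ χ hχ
    obtain ⟨ψ0, hψ0⟩ := hT0ne
    by_cases h : ψ0 = χ
    · obtain ⟨ψ, hψ, hne⟩ := Finset.exists_mem_ne hk1 χ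
      refine ⟨ψ, hψ, hne, ?_⟩
      exact hnz1 γ hγ χ (h ▸ hψ0) ψ hψ
    · exact ⟨ψ0, hT0 hψ0, h, hnz2 γ hγ χ hχ ψ0 hψ0⟩
  have hsplit : ∀ γ ∈ unitsRange 2 n, ∀ χ ∈ S,
      ∑ ψ ∈ S.erase χ, Complex.normSq (m γ χ ψ) = r γ χ * ((2 : ℝ) ^ d - r γ χ) := by
    intro γ hγ χ hχ
    have h := hrowR γ hγ χ hχ
    rw [← Finset.add_sum_erase S _ hχ, hr γ χ, Complex.normSq_ofReal] at h
    linarith
  have hQpos : ∀ γ ∈ unitsRange 2 n, ∀ χ ∈ S,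
      0 < ∑ ψ ∈ S.erase χ, Complex.normSq (m γ χ ψ) := by
    intro γ hγ χ hχ
    obtain ⟨ψ, hψ, hne, hnz⟩ := hoff γ hγ χ hχ
    refine lt_of_lt_of_le (Complex.normSq_pos.mpr hnz)
      (Finset.single_le_sum (f := fun ψ => Complex.normSq (m γ χ ψ))
        (fun ζ _ => Complex.normSq_nonneg _) (Finset.mem_erase.mpr ⟨hne, hψ⟩))
  have hrpos : ∀ γ ∈ unitsRange 2 n, ∀ χ ∈ S, 0 < r γ χ := by
    intro γ hγ χ hχ
    have h := hrowR γ hγ χ hχ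
    have h1 := hQpos γ hγ χ hχ
    have h2 : ∑ ψ ∈ S.erase χ, Complex.normSq (m γ χ ψ) ≤ ∑ ψ ∈ S, Complex.normSq (m γ χ ψ) :=
      Finset.sum_le_sum_of_subset_of_nonneg (Finset.erase_subset _ _)
        (fun ζ _ _ => Complex.normSq_nonneg _)
    have h3 : (0 : ℝ) < (2 : ℝ) ^ d := by positivity
    have h4 : 0 < (2 : ℝ) ^ d * r γ χ := by linarith
    exact pos_of_mul_pos_left (by rw [mul_comm]; exact h4) h3.le
  have hrlt : ∀ γ ∈ unitsRange 2 n, ∀ χ ∈ S, r γ χ < 2 ^ d := by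
    intro γ hγ χ hχ
    have h1 := hQpos γ hγ χ hχ
    rw [hsplit γ hγ χ hχ] at h1
    have h2 := hrpos γ hγ χ hχ
    have h3 : 0 < (2 : ℝ) ^ d - r γ χ := pos_of_mul_pos_left (by rw [mul_comm]; exact h1) h2.le
    linarith
  -- the averages
  have hD : ∀ χ : K, ∃ a : ℤ, χ ∈ S →
      (∑ γ ∈ unitsRange 2 n, ((2 : ℝ) ^ d - r γ χ) = ((2 ^ n).totient : ℝ) * (a : ℝ) ∧
      1 ≤ a ∧ (χ ∈ T0 → Odd a) ∧ (χ ∉ T0 → 3 ≤ a)) := by
    intro χ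
    by_cases hχ : χ ∈ S
    · obtain ⟨a, h1, h2, h3, h4⟩ := exists_diag_avg hM n (A χ χ) (μ χ χ) (hμ χ χ) d
        (fun γ => r γ χ) (fun γ => by rw [← hm γ χ χ, hr γ χ])
        (fun γ hγ => hrpos γ hγ χ hχ) (fun γ hγ => hrlt γ hγ χ hχ)
      refine ⟨a, fun _ => ⟨h1, h2, ?_, ?_⟩⟩
      · intro hχ0
        refine h3 (fun γ hγ => ?_)
        rw [← hm γ χ χ]
        exact hunit γ hγ χ hχ0
      · intro hχ0
        refine h4 (fun γ hγ => ?_)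
        rw [← hm γ χ χ]
        exact hhalf γ hγ χ hχ hχ0
    · exact ⟨0, fun h => absurd h hχ⟩
  choose a ha using hD
  exact Cfsg.Agent.Helper97.Samb.card_le_of_avg n hn S T0 hT0 d l A μ hμ m hm r hr hrowR htrR hnz1
    hrlt a (fun χ hχ => (ha χ hχ).1) (fun χ hχ => (ha χ hχ).2.1)
    (fun χ hχ => (ha χ (hT0 hχ)).2.2.1 hχ) (fun χ hχ hχ0 => (ha χ hχ).2.2.2 hχ0) hk

end Cfsg.Agent.Helper79.Samb

end
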