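import Cfsg.Agent.Helper79.Samb.Diag
import Cfsg.Agent.Helper63.SambHT
import Cfsg.Agent.Helper55.SambCOUNTM

/-!
S4540 (Sambale: `l(b) ≤ 3 ⇒ 3 k₀ + 2 ∑_{ht > 0} 2^ht ≤ 3·2^d`): the abstract count on the `M`-side,
assembled from (HT) and (COUNTM).
-/

set_option autoImplicit false
set_option linter.style.haveILetI false
set_option linter.unusedSectionVars false
set_option linter.unusedVariables false

noncomputable section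

namespace Cfsg.Agent.Helper79.Samb

open Cfsg
open scoped ComplexConjugate
open Cfsg.Agent.Helper78.Olsson (unitsRange)

/-- the Galois average of a diagonal entry `m_χχ` of the contribution matrix -/
theorem exists_diag_avg_M {M : Ideal AlgInt} (hM : IsPModular 2 M) (n : ℕ)
    {ι : Type*} [Fintype ι] (A : ι → ℤ) (μ : ι → ℂ) (hμ : ∀ i, μ i ^ (2 ^ n) = 1)
    (r : ℕ → ℝ) (hr : ∀ γ : ℕ, ∑ i, (A i : ℂ) * μ i ^ γ = (r γ : ℂ))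
    (hpos : ∀ γ ∈ unitsRange 2 n, 0 < r γ) :
    ∃ e : ℤ, ∑ γ ∈ unitsRange 2 n, r γ = ((2 ^ n).totient : ℝ) * (e : ℝ) ∧
      1 ≤ e ∧
      ((∀ γ ∈ unitsRange 2 n, ¬ MemLocalIdeal M (∑ i, (A i : ℂ) * μ i ^ γ)) → Odd e) ∧
      (∀ h : ℕ, (∀ γ ∈ unitsRange 2 n,
        MemLocalIdeal M ((∑ i, (A i : ℂ) * μ i ^ γ) / ((2 ^ h : ℕ) : ℂ))) →
          (2 : ℤ) ^ (h + 1) ≤ e) := by
  classical
  haveI hMp : M.IsPrime := Cfsg.Agent.Helper16.IsPModular.isPrime hM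
  have hpr : (2 : ℕ).Prime := Nat.prime_two
  set Γ := unitsRange 2 n with hΓ
  have hΓcard : Γ.card = (2 ^ n).totient := unitsRange_card 2 n
  have hφpos : 0 < (2 ^ n).totient := Nat.totient_pos.mpr (pow_pos hpr.pos n)
  have hφR : (0 : ℝ) < ((2 ^ n).totient : ℝ) := by exact_mod_cast hφpos
  obtain ⟨γ0, hγ0⟩ : Γ.Nonempty := unitsRange_nonempty hpr n
  obtain ⟨e, he1, he2⟩ := Cfsg.Agent.Helper16.exists_avg_int_two n Finset.univ A μ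
    (fun i _ => hμ i) (fun γ => by rw [hr γ, Complex.conj_ofReal])
  have he1' : ∑ γ ∈ Γ, r γ = ((2 ^ n).totient : ℝ) * (e : ℝ) := by
    apply Complex.ofReal_injective
    rw [Complex.ofReal_sum]
    have : ∑ γ ∈ Γ, ((r γ : ℝ) : ℂ) = ∑ γ ∈ Γ, ∑ i, (A i : ℂ) * μ i ^ γ :=
      Finset.sum_congr rfl (fun γ _ => (hr γ).symm)
    rw [this]
    push_cast
    have hΓeq : Γ = (Finset.range (2 ^ n)).filter (fun γ => Nat.Coprime (2 ^ n) γ) := by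
      ext γ
      simp only [hΓ, unitsRange, Finset.mem_filter]
    rw [hΓeq]
    exact he1
  have hrpos : 0 < ∑ γ ∈ Γ, r γ := Finset.sum_pos hpos ⟨γ0, hγ0⟩
  have he_pos : 1 ≤ e := by
    rw [he1'] at hrpos
    have h1 : (0 : ℝ) < (e : ℝ) := pos_of_mul_pos_left (by rw [mul_comm]; exact hrpos) hφR.le
    have : 0 < e := by exact_mod_cast h1
    omega
  obtain ⟨k, hk⟩ := he2
  refine ⟨e, he1', he_pos, ?_, ?_⟩
  · intro hunit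
    have h1 := hunit γ0 hγ0
    rw [pow_form_memLocalIdeal_iff hM A μ hμ γ0] at h1
    rw [Int.odd_iff]
    have h2 : (∑ i, A i) % 2 = 1 := by
      have : ¬ (2 : ℤ) ∣ ∑ i, A i := by exact_mod_cast h1
      omega
    omega
  · intro h hid
    have hht := Cfsg.Agent.Helper63.Samb.sum_ge_totient_mul_two_pow_succ hM n h A μ hμ r
      (fun γ _ => hr γ) hpos hid
    rw [he1'] at hht
    have h3 : ((2 ^ (h + 1) : ℕ) : ℝ) ≤ (e : ℝ) := le_of_mul_le_mul_left hht hφR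
    have h4 : (((2 : ℤ) ^ (h + 1) : ℤ) : ℝ) ≤ (e : ℝ) := by
      push_cast at h3 ⊢
      exact h3
    exact_mod_cast h4

/-- the abstract form of Sambale's bound for `l(b) ≤ 3`. -/
theorem three_mul_card_le_of_contrib {M : Ideal AlgInt} (hM : IsPModular 2 M) (n : ℕ) (hn : 1 ≤ n)
    {K : Type*} [Fintype K] [DecidableEq K] (S T0 : Finset K) (hT0 : T0 ⊆ S)
    (hT0ne : T0.Nonempty) (d l : ℕ) (hl : l ≤ 3) {ι : Type*} [Fintype ι]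
    (A : K → K → ι → ℤ) (μ : K → K → ι → ℂ) (hμ : ∀ χ ψ i, μ χ ψ i ^ (2 ^ n) = 1)
    (m : ℕ → K → K → ℂ) (hm : ∀ γ χ ψ, m γ χ ψ = ∑ i, (A χ ψ i : ℂ) * μ χ ψ i ^ γ)
    (hreal : ∀ γ χ, conj (m γ χ χ) = m γ χ χ)
    (hrow : ∀ γ ∈ unitsRange 2 n, ∀ χ ∈ S,
      ∑ ψ ∈ S, m γ χ ψ * conj (m γ χ ψ) = ((2 ^ d : ℕ) : ℂ) * m γ χ χ)
    (htr : ∀ γ ∈ unitsRange 2 n, ∑ χ ∈ S, m γ χ χ = ((2 ^ d : ℕ) : ℂ) * (l : ℂ))
    (hnz1 : ∀ γ ∈ unitsRange 2 n, ∀ χ ∈ T0, ∀ ψ ∈ S, m γ χ ψ ≠ 0)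
    (hnz2 : ∀ γ ∈ unitsRange 2 n, ∀ χ ∈ S, ∀ ψ ∈ T0, m γ χ ψ ≠ 0)
    (hunit : ∀ γ ∈ unitsRange 2 n, ∀ χ ∈ T0, ¬ MemLocalIdeal M (m γ χ χ))
    (ht : K → ℕ) (hht0 : ∀ χ ∈ T0, ht χ = 0)
    (hval : ∀ γ ∈ unitsRange 2 n, ∀ χ ∈ S, χ ∉ T0 →
      MemLocalIdeal M (m γ χ χ / ((2 ^ ht χ : ℕ) : ℂ)))
    (hoff : ∀ γ ∈ unitsRange 2 n, ∀ χ ∈ T0, ∀ ψ ∈ S,
      MemLocalRing M (m γ χ ψ * conj (m γ χ ψ) / ((2 ^ (2 * ht ψ) : ℕ) : ℂ))) :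
    3 * T0.card + 2 * ∑ χ ∈ S \ T0, 2 ^ ht χ ≤ 3 * 2 ^ d := by
  classical
  set r : ℕ → K → ℝ := fun γ χ => (m γ χ χ).re with hrdef
  have hr : ∀ γ χ, m γ χ χ = (r γ χ : ℂ) := by
    intro γ χ
    exact (Complex.conj_eq_iff_re.mp (hreal γ χ)).symm
  have hrowR : ∀ γ ∈ unitsRange 2 n, ∀ χ ∈ S,
      ∑ ψ ∈ S, Complex.normSq (m γ χ ψ) = (2 : ℝ) ^ d * r γ χ := by
    intro γ hγ χ hχ
    apply Complex.ofReal_injective
    have h := hrow γ hγ χ hχ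
    simp only [Complex.mul_conj] at h
    rw [Complex.ofReal_sum, h, hr γ χ]
    push_cast
    ring
  have htrR : ∀ γ ∈ unitsRange 2 n, ∑ χ ∈ S, r γ χ = (2 : ℝ) ^ d * (l : ℝ) := by
    intro γ hγ
    apply Complex.ofReal_injective
    have h := htr γ hγ
    rw [Complex.ofReal_sum]
    rw [← Finset.sum_congr rfl (fun χ _ => hr γ χ), h]
    push_cast
    ring
  have hrpos : ∀ γ ∈ unitsRange 2 n, ∀ χ ∈ S, 0 < r γ χ := by
    intro γ hγ χ hχ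
    obtain ⟨ψ0, hψ0⟩ := hT0ne
    have h := hrowR γ hγ χ hχ
    have h1 : 0 < Complex.normSq (m γ χ ψ0) := Complex.normSq_pos.mpr (hnz2 γ hγ χ hχ ψ0 hψ0)
    have h2 : Complex.normSq (m γ χ ψ0) ≤ ∑ ψ ∈ S, Complex.normSq (m γ χ ψ) :=
      Finset.single_le_sum (f := fun ψ => Complex.normSq (m γ χ ψ))
        (fun ζ _ => Complex.normSq_nonneg _) (hT0 hψ0)
    have h3 : (0 : ℝ) < (2 : ℝ) ^ d := by positivity
    have h4 : 0 < (2 : ℝ) ^ d * r γ χ := by linarith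
    exact pos_of_mul_pos_left (by rw [mul_comm]; exact h4) h3.le
  have hD : ∀ χ : K, ∃ e : ℤ, χ ∈ S →
      (∑ γ ∈ unitsRange 2 n, r γ χ = ((2 ^ n).totient : ℝ) * (e : ℝ) ∧
      1 ≤ e ∧ (χ ∈ T0 → Odd e) ∧ (χ ∉ T0 → (2 : ℤ) ^ (ht χ + 1) ≤ e)) := by
    intro χ
    by_cases hχ : χ ∈ S
    · obtain ⟨e, h1, h2, h3, h4⟩ := exists_diag_avg_M hM n (A χ χ) (μ χ χ) (hμ χ χ)
        (fun γ => r γ χ) (fun γ => by rw [← hm γ χ χ, hr γ χ])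
        (fun γ hγ => hrpos γ hγ χ hχ)
      refine ⟨e, fun _ => ⟨h1, h2, ?_, ?_⟩⟩
      · intro hχ0
        refine h3 (fun γ hγ => ?_)
        rw [← hm γ χ χ]
        exact hunit γ hγ χ hχ0
      · intro hχ0
        refine h4 (ht χ) (fun γ hγ => ?_)
        rw [← hm γ χ χ]
        exact hval γ hγ χ hχ hχ0
    · exact ⟨0, fun h => absurd h hχ⟩
  choose e he using hD
  exact Cfsg.Agent.Helper55.Samb.three_mul_card_le_of_avg hM n hn S T0 hT0 d l hl A μ hμ m hm r hr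
    hrowR htrR ht hht0 hnz1 hoff e (fun χ hχ => (he χ hχ).1) (fun χ hχ => (he χ hχ).2.1)
    (fun χ hχ => (he χ (hT0 hχ)).2.2.1 hχ) (fun χ hχ hχ0 => (he χ hχ).2.2.2 hχ0)

end Cfsg.Agent.Helper79.Samb

end
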