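import Cfsg.Agent.Helper79.Samb.Par
import Cfsg.Agent.Helper37.SambNORM
import Cfsg.Agent.Helper16.CycloAvg

/-!
S4575 (Sambale: `k(B) - l(b) ≤ 3 ⇒ k(B) ≤ 2^d`), piece (DIAG): the Galois average of a diagonal
entry `2^d - m_χχ` of the complementary contribution matrix is a positive integer, odd when `m_χχ`
is a unit and at least `3` when `m_χχ / 2` lies in the local ideal.
-/

set_option autoImplicit false
set_option linter.style.haveILetI false
set_option linter.unusedSectionVars false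
set_option linter.unusedVariables false

noncomputable section

namespace Cfsg.Agent.Helper79.Samb

open Cfsg
open scoped ComplexConjugate
open Cfsg.Agent.Helper78.Olsson (unitsRange)

theorem unitsRange_card (p n : ℕ) : (unitsRange p n).card = (p ^ n).totient :=
  (Nat.totient_eq_card_coprime _).symm

theorem unitsRange_nonempty {p : ℕ} (hp : p.Prime) (n : ℕ) : (unitsRange p n).Nonempty := by
  rw [← Finset.card_pos, unitsRange_card]
  exact Nat.totient_pos.mpr (pow_pos hp.pos n)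

/-- (DIAG) the Galois average of a diagonal entry `2^d - m_χχ` of the complementary contribution
matrix. -/
theorem exists_diag_avg {M : Ideal AlgInt} (hM : IsPModular 2 M) (n : ℕ)
    {ι : Type*} [Fintype ι] (A : ι → ℤ) (μ : ι → ℂ) (hμ : ∀ i, μ i ^ (2 ^ n) = 1) (d : ℕ)
    (r : ℕ → ℝ) (hr : ∀ γ : ℕ, ∑ i, (A i : ℂ) * μ i ^ γ = (r γ : ℂ))
    (hpos : ∀ γ ∈ unitsRange 2 n, 0 < r γ) (hlt : ∀ γ ∈ unitsRange 2 n, r γ < 2 ^ d) :
    ∃ a : ℤ, ∑ γ ∈ unitsRange 2 n, ((2 : ℝ) ^ d - r γ) = ((2 ^ n).totient : ℝ) * (a : ℝ) ∧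
      1 ≤ a ∧
      ((∀ γ ∈ unitsRange 2 n, ¬ MemLocalIdeal M (∑ i, (A i : ℂ) * μ i ^ γ)) → Odd a) ∧
      ((∀ γ ∈ unitsRange 2 n, MemLocalIdeal M ((∑ i, (A i : ℂ) * μ i ^ γ) / 2)) → 3 ≤ a) := by
  classical
  haveI hMp : M.IsPrime := Cfsg.Agent.Helper16.IsPModular.isPrime hM
  have hpr : (2 : ℕ).Prime := Nat.prime_two
  set Γ := unitsRange 2 n with hΓ
  have hΓcard : Γ.card = (2 ^ n).totient := unitsRange_card 2 n
  have hφpos : 0 < (2 ^ n).totient := Nat.totient_pos.mpr (pow_pos hpr.pos n)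
  have hφR : (0 : ℝ) < ((2 ^ n).totient : ℝ) := by exact_mod_cast hφpos
  obtain ⟨γ0, hγ0⟩ : Γ.Nonempty := unitsRange_nonempty hpr n
  -- the average
  obtain ⟨e, he1, he2⟩ := Cfsg.Agent.Helper16.exists_avg_int_two n Finset.univ A μ
    (fun i _ => hμ i) (fun γ => by rw [hr γ, Complex.conj_ofReal])
  have he1' : ∑ γ ∈ Γ, r γ = ((2 ^ n).totient : ℝ) * (e : ℝ) := by
    apply Complex.ofReal_injective
    rw [Complex.ofReal_sum]
    have : ∑ γ ∈ Γ, ((r γ : ℝ) : ℂ) = ∑ γ ∈ Γ, ∑ i, (A i : ℂ) * μ i ^ γ :=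
      Finset.sum_congr rfl (fun γ _ => (hr γ).symm)
    rw [this]
    push_cast
    have hΓeq : Γ = (Finset.range (2 ^ n)).filter (fun γ => Nat.Coprime (2 ^ n) γ) := by
      ext γ
      simp only [hΓ, unitsRange, Finset.mem_filter]
    rw [hΓeq]
    exact he1
  have hsum : ∑ γ ∈ Γ, ((2 : ℝ) ^ d - r γ) =
      ((2 ^ n).totient : ℝ) * (((2 : ℤ) ^ d - e : ℤ) : ℝ) := by
    rw [Finset.sum_sub_distrib, he1', Finset.sum_const, hΓcard, nsmul_eq_mul]
    push_cast
    ring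
  have hsumpos : 0 < ∑ γ ∈ Γ, ((2 : ℝ) ^ d - r γ) := by
    refine Finset.sum_pos (fun γ hγ => ?_) ⟨γ0, hγ0⟩
    have := hlt γ hγ
    linarith
  have hrpos : 0 < ∑ γ ∈ Γ, r γ := Finset.sum_pos hpos ⟨γ0, hγ0⟩
  have he_pos : 1 ≤ e := by
    rw [he1'] at hrpos
    have h1 : (0 : ℝ) < (e : ℝ) := pos_of_mul_pos_left (by rw [mul_comm]; exact hrpos) hφR.le
    have : 0 < e := by exact_mod_cast h1
    omega
  have ha_pos : 1 ≤ (2 : ℤ) ^ d - e := by
    rw [hsum] at hsumpos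
    have h1 : (0 : ℝ) < (((2 : ℤ) ^ d - e : ℤ) : ℝ) :=
      pos_of_mul_pos_left (by rw [mul_comm]; exact hsumpos) hφR.le
    have : 0 < (2 : ℤ) ^ d - e := by exact_mod_cast h1
    omega
  have hd1 : 1 ≤ d := by
    rcases Nat.eq_zero_or_pos d with h0 | h0
    · rw [h0, pow_zero] at ha_pos
      omega
    · exact h0
  obtain ⟨d', rfl⟩ : ∃ d', d = d' + 1 := ⟨d - 1, by omega⟩
  have h2d : (2 : ℤ) ^ (d' + 1) = 2 * 2 ^ d' := by rw [pow_succ]; ring
  obtain ⟨k, hk⟩ := he2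
  refine ⟨(2 : ℤ) ^ (d' + 1) - e, hsum, ha_pos, ?_, ?_⟩
  · intro hunit
    have h1 := hunit γ0 hγ0
    rw [pow_form_memLocalIdeal_iff hM A μ hμ γ0] at h1
    rw [Int.odd_iff]
    have h2 : (∑ i, A i) % 2 = 1 := by
      have : ¬ (2 : ℤ) ∣ ∑ i, A i := by exact_mod_cast h1
      omega
    rw [h2d]
    omega
  · intro hid
    have hmem : ∀ γ ∈ Γ, MemLocalIdeal M (∑ i, (A i : ℂ) * μ i ^ γ) := by
      intro γ hγ
      have h1 := Cfsg.Agent.Helper16.memLocalIdeal_mul_left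
        (Cfsg.Agent.Helper16.memLocalRing_natCast (M := M) 2) (hid γ hγ)
      have h2 : ((2 : ℕ) : ℂ) * ((∑ i, (A i : ℂ) * μ i ^ γ) / 2) = ∑ i, (A i : ℂ) * μ i ^ γ := by
        push_cast
        ring
      rwa [h2] at h1
    have h1 := hmem γ0 hγ0
    rw [pow_form_memLocalIdeal_iff hM A μ hμ γ0] at h1
    have h2 : (∑ i, A i) % 2 = 0 := by
      have : (2 : ℤ) ∣ ∑ i, A i := by exact_mod_cast h1
      omega
    by_contra hlt3
    rw [not_le] at hlt3
    have ha2 : (2 : ℤ) ^ (d' + 1) - e = 2 := by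
      rw [h2d] at ha_pos hlt3 ⊢
      omega
    -- `d ≥ 2`
    have hd2 : 1 ≤ d' := by
      rcases Nat.eq_zero_or_pos d' with h0 | h0
      · rw [h0] at ha2
        norm_num at ha2
        omega
      · exact h0
    -- the strict norm bound
    set A' : Option ι → ℤ := fun j => Option.elim j ((2 : ℤ) ^ (d' + 1)) (fun i => - A i) with hA'
    set μ' : Option ι → ℂ := fun j => Option.elim j 1 μ with hμ'
    have hμ'pow : ∀ j ∈ (Finset.univ : Finset (Option ι)), μ' j ^ (2 ^ n) = 1 := by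
      intro j _
      cases j with
      | none => simp [hμ']
      | some i => simpa [hμ'] using hμ i
    have hform : ∀ γ : ℕ, ∑ j ∈ (Finset.univ : Finset (Option ι)), (A' j : ℂ) * μ' j ^ γ =
        (((2 : ℝ) ^ (d' + 1) - r γ : ℝ) : ℂ) := by
      intro γ
      rw [Fintype.sum_option]
      simp only [hA', hμ', Option.elim_none, Option.elim_some, one_pow, mul_one]
      push_cast
      rw [← hr γ, sub_eq_add_neg, ← Finset.sum_neg_distrib]
      congr 1
      refine Finset.sum_congr rfl (fun i _ => ?_)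
      ring
    have hnorm := Cfsg.Agent.Helper37.Samb.sum_gt_totient_mul_pow hpr hM n 1 Finset.univ A' μ' hμ'pow
      (fun γ => (2 : ℝ) ^ (d' + 1) - r γ) (fun γ _ => hform γ)
      (fun γ hγ => by have := hlt γ hγ; linarith)
      (fun γ hγ => by
        rw [hform γ]
        have h3 : ((((2 : ℝ) ^ (d' + 1) - r γ : ℝ) : ℂ)) / (((2 ^ 1 : ℕ) : ℕ) : ℂ) =
            ((2 ^ d' : ℕ) : ℂ) - (∑ i, (A i : ℂ) * μ i ^ γ) / 2 := by
          rw [hr γ]
          push_cast
          rw [pow_succ]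
          ring
        rw [h3]
        refine Cfsg.Agent.Helper16.memLocalIdeal_sub ?_ (hid γ hγ)
        rw [Helper78.memLocalIdeal_natCast_iff hM]
        exact dvd_pow_self 2 (by omega))
    rw [hsum, ha2] at hnorm
    norm_num at hnorm

end Cfsg.Agent.Helper79.Samb

end
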