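import Cfsg.Agent.Helper79.Samb.Abs
import Cfsg.Agent.Helper32.SambV3
import Cfsg.Agent.Helper85.OlssonVLEM
import Cfsg.Agent.Helper77.SubsectionOrth
import Cfsg.Agent.Helper16.Contribution5

/-!
S4575 (Sambale): for a `2`-block `B` with a major subsection `(y, b)`,
`k(B) ≤ l(b) + 3 ⇒ k(B) ≤ 2^d`.
-/

set_option autoImplicit false
set_option linter.style.haveILetI false
set_option linter.unusedSectionVars false
set_option linter.unusedVariables false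

noncomputable section

namespace Cfsg.Agent.Helper79.Samb

open Cfsg
open scoped ComplexConjugate
open Cfsg.Agent.Helper16
open Cfsg.Agent.Helper78.Olsson (unitsRange)

variable {G : Type*} [Group G] [Fintype G] {M : Ideal AlgInt}

/-- **Sambale**: `k(B) ≤ l(b) + 3 ⇒ k(B) ≤ 2^d` for a major subsection `(y, b)` of a `2`-block. -/
theorem card_block_le_of_card_le_add_three [Fact (2 : ℕ).Prime] (hM : IsPModular 2 M)
    {B : Set (IrrCharacter G)} (hB : IsPBlock M B) (H : Subgroup G) [Fintype H] (yH : H)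
    (hyc : yH ∈ Subgroup.center H) (hHy : H = Subgroup.centralizer ({(yH : G)} : Set G))
    (n : ℕ) (hn : 1 ≤ n) (hy : orderOf (yH : G) ∣ 2 ^ n) {b : Set (IrrCharacter H)}
    (hind : IsInducedBlock M H b B) (hdef : blockDefect 2 b = blockDefect 2 B)
    (hk : Nat.card B ≤ blockRank 2 b + 3) : Nat.card B ≤ 2 ^ blockDefect 2 B := by
  classical
  haveI hMp : M.IsPrime := IsPModular.isPrime hM
  have hpr : (2 : ℕ).Prime := Nat.prime_two
  have hb : IsPBlock M b := hind.1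
  have hyHpow : yH ^ (2 ^ n) = 1 := by
    apply Subtype.ext
    rw [SubmonoidClass.coe_pow]
    exact orderOf_dvd_iff_pow_eq_one.mp hy
  set d := blockDefect 2 B with hd
  set S : Finset (IrrCharacter G) := Finset.univ.filter (fun χ => χ ∈ B) with hS
  set T0 : Finset (IrrCharacter G) :=
    S.filter (fun χ => blockHeight 2 B (χ : G → ℂ) = 0) with hT0def
  have hmemS : ∀ χ : IrrCharacter G, χ ∈ S ↔ χ ∈ B := by
    intro χ
    rw [hS, Finset.mem_filter]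
    simp
  have hmemT0 : ∀ χ : IrrCharacter G, χ ∈ T0 ↔ χ ∈ B ∧ blockHeight 2 B (χ : G → ℂ) = 0 := by
    intro χ
    rw [hT0def, Finset.mem_filter, hmemS]
  have hScard : S.card = Nat.card B := by
    rw [Nat.card_eq_fintype_card, Fintype.card_subtype]
  have hT0sub : T0 ⊆ S := Finset.filter_subset _ _
  have hT0ne : T0.Nonempty := by
    obtain ⟨ψ, hψ, hψ0⟩ := Helper78.exists_height_zero (p := 2) hMp hB
    exact ⟨ψ, (hmemT0 ψ).mpr ⟨hψ, hψ0⟩⟩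
  have facts := fun (γ : ℕ) (hγ : γ ∈ unitsRange 2 n) =>
    Helper85.Olsson.major_facts hM hB H yH hyc hHy n hy hind hdef γ hγ
  choose A μ hμ hform using fun χ ψ : IrrCharacter G =>
    exists_pow_form hM H yH hyc n hyHpow hb χ ψ
  set m : ℕ → IrrCharacter G → IrrCharacter G → ℂ := fun γ χ ψ =>
    ((2 ^ d : ℕ) : ℂ) * contribE 2 H ((yH : G) ^ γ) b (χ : G → ℂ) (ψ : G → ℂ) with hmdef
  have h2d : ((2 ^ d : ℕ) : ℂ) ≠ 0 := by exact_mod_cast (pow_pos hpr.pos d).ne'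
  have hm : ∀ γ χ ψ, m γ χ ψ = ∑ i, (A χ ψ i : ℂ) * μ χ ψ i ^ γ := by
    intro γ χ ψ
    rw [← hform χ ψ γ, hdef]
  have hsymm : ∀ γ χ ψ, conj (m γ χ ψ) = m γ ψ χ := by
    intro γ χ ψ
    simp only [hmdef]
    rw [map_mul, Complex.conj_natCast, contribE_conj_symm hM H _ hb]
  have hreal : ∀ γ χ, conj (m γ χ χ) = m γ χ χ := fun γ χ => hsymm γ χ χ
  have hvan1 : ∀ γ ∈ unitsRange 2 n, ∀ χ ψ : IrrCharacter G, χ ∉ B → m γ χ ψ = 0 := by
    intro γ hγ χ ψ hχ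
    obtain ⟨hH', hxγ, -⟩ := facts γ hγ
    simp only [hmdef]
    rw [Helper77.contribE_eq_zero_of_not_mem hM _ hxγ H hH' hind χ hχ ψ, mul_zero]
  have hvan2 : ∀ γ ∈ unitsRange 2 n, ∀ χ ψ : IrrCharacter G, ψ ∉ B → m γ χ ψ = 0 := by
    intro γ hγ χ ψ hψ
    rw [← hsymm γ ψ χ, hvan1 γ hγ ψ χ hψ, map_zero]
  have hrow : ∀ γ ∈ unitsRange 2 n, ∀ χ ∈ S,
      ∑ ψ ∈ S, m γ χ ψ * conj (m γ χ ψ) = ((2 ^ d : ℕ) : ℂ) * m γ χ χ := by
    intro γ hγ χ hχ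
    obtain ⟨hH', hxγ, -⟩ := facts γ hγ
    have h1 : ∑ ψ ∈ S, m γ χ ψ * conj (m γ χ ψ) = ∑ ψ : IrrCharacter G, m γ χ ψ * conj (m γ χ ψ) := by
      refine Finset.sum_subset (Finset.subset_univ _) (fun ψ _ hψ => ?_)
      rw [hmemS] at hψ
      rw [hvan2 γ hγ χ ψ hψ, zero_mul]
    rw [h1]
    have h2 := sum_contribE_row' hM _ hxγ H hH' hb χ
    simp only [hmdef]
    rw [← h2, Finset.mul_sum, Finset.mul_sum]
    refine Finset.sum_congr rfl (fun ψ _ => ?_)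
    rw [map_mul, Complex.conj_natCast]
    ring
  have htr : ∀ γ ∈ unitsRange 2 n,
      ∑ χ ∈ S, m γ χ χ = ((2 ^ d : ℕ) : ℂ) * ((blockRank 2 b : ℕ) : ℂ) := by
    intro γ hγ
    obtain ⟨hH', hxγ, -⟩ := facts γ hγ
    have h1 : ∑ χ ∈ S, m γ χ χ = ∑ χ : IrrCharacter G, m γ χ χ := by
      refine Finset.sum_subset (Finset.subset_univ _) (fun χ _ hχ => ?_)
      rw [hmemS] at hχ
      exact hvan1 γ hγ χ χ hχ
    rw [h1]
    have h2 := sum_contribE_diag' hM _ hxγ H hH' hb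
    simp only [hmdef]
    rw [← Finset.mul_sum, h2]
  have hnz2 : ∀ γ ∈ unitsRange 2 n, ∀ χ ∈ S, ∀ ψ ∈ T0, m γ χ ψ ≠ 0 := by
    intro γ hγ χ hχ ψ hψ
    obtain ⟨-, -, -, hne, -⟩ := facts γ hγ
    rw [hmemS] at hχ
    rw [hmemT0] at hψ
    exact mul_ne_zero h2d (hne χ ψ hχ hψ.1 hψ.2)
  have hnz1 : ∀ γ ∈ unitsRange 2 n, ∀ χ ∈ T0, ∀ ψ ∈ S, m γ χ ψ ≠ 0 := by
    intro γ hγ χ hχ ψ hψ
    rw [← hsymm γ ψ χ]
    intro h0
    exact hnz2 γ hγ ψ hψ χ hχ ((map_eq_zero _).mp h0)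
  have hunit : ∀ γ ∈ unitsRange 2 n, ∀ χ ∈ T0, ¬ MemLocalIdeal M (m γ χ χ) := by
    intro γ hγ χ hχ
    obtain ⟨-, -, hu, -⟩ := facts γ hγ
    rw [hmemT0] at hχ
    exact hu χ hχ.1 hχ.2
  have hhalf : ∀ γ ∈ unitsRange 2 n, ∀ χ ∈ S, χ ∉ T0 → MemLocalIdeal M (m γ χ χ / 2) := by
    intro γ hγ χ hχ hχ0
    rw [hmemS] at hχ
    rw [hmemT0] at hχ0
    have hht : blockHeight 2 B (χ : G → ℂ) ≠ 0 := fun h => hχ0 ⟨hχ, h⟩
    have h := Cfsg.Agent.Helper32.Samb.memLocalIdeal_contribE_self_div_p hM hB H yH hyc hHy n hy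
      hind hdef γ hγ χ hχ hht
    simpa [hmdef] using h
  have hk' : S.card ≤ blockRank 2 b + 3 := by rw [hScard]; exact hk
  rw [← hScard]
  exact card_le_of_contrib hM n hn S T0 hT0sub hT0ne d (blockRank 2 b) A μ hμ m hm hreal hrow htr
    hnz1 hnz2 hunit hhalf hk'

end Cfsg.Agent.Helper79.Samb

end
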