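import Cfsg.Agent.Helper79.Samb.AbsM
import Cfsg.Agent.Helper32.SambV3h
import Cfsg.Agent.Helper85.OlssonVLEM
import Cfsg.Agent.Helper77.SubsectionOrth
import Cfsg.Agent.Helper16.Contribution5

/-!
S4540 (Sambale): for a `2`-block `B` with a major subsection `(y, b)` with `l(b) ≤ 3`,
`3 k₀(B) + 2 ∑_{ht χ > 0} 2^(ht χ) ≤ 3·2^d`.
-/

set_option autoImplicit false
set_option linter.style.haveILetI false
set_option linter.unusedSectionVars false
set_option linter.unusedVariables false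

noncomputable section

namespace Cfsg.Agent.Helper79.Samb

open Cfsg
open scoped ComplexConjugate
open Cfsg.Agent.Helper16
open Cfsg.Agent.Helper78.Olsson (unitsRange)

/-- the complex conjugate of a power form in `N`-th roots of unity is its value at the exponent
`(N - 1) γ mod N`. -/
theorem conj_pow_form {N : ℕ} (hN : 0 < N) {ι : Type*} [Fintype ι] (A : ι → ℤ) (μ : ι → ℂ)
    (hμ : ∀ i, μ i ^ N = 1) (γ : ℕ) :
    conj (∑ i, (A i : ℂ) * μ i ^ γ) = ∑ i, (A i : ℂ) * μ i ^ ((N - 1) * γ % N) := by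
  rw [map_sum]
  refine Finset.sum_congr rfl (fun i _ => ?_)
  rw [map_mul, map_intCast, map_pow]
  congr 1
  have h1 : μ i * conj (μ i) = 1 := mul_conj_self_of_pow_eq_one hN.ne' (hμ i)
  have h2 : μ i * μ i ^ (N - 1) = 1 := by
    rw [← pow_succ', Nat.sub_add_cancel hN, hμ i]
  have hμ0 : μ i ≠ 0 := by
    intro h0
    rw [h0, zero_mul] at h1
    exact zero_ne_one h1
  have h3 : conj (μ i) = μ i ^ (N - 1) := mul_left_cancel₀ hμ0 (h1.trans h2.symm)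
  rw [h3, ← pow_mul]
  have h4 : (N - 1) * γ = N * ((N - 1) * γ / N) + (N - 1) * γ % N := (Nat.div_add_mod _ _).symm
  conv_lhs => rw [h4]
  rw [pow_add, pow_mul, hμ i, one_pow, one_mul]

theorem conj_exponent_mem_unitsRange {n : ℕ} (hn : 1 ≤ n) {γ : ℕ} (hγ : γ ∈ unitsRange 2 n) :
    (2 ^ n - 1) * γ % 2 ^ n ∈ unitsRange 2 n := by
  unfold unitsRange at hγ ⊢
  rw [Finset.mem_filter, Finset.mem_range] at hγ ⊢
  have hN : 0 < 2 ^ n := pow_pos (by norm_num) n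
  refine ⟨Nat.mod_lt _ hN, ?_⟩
  have h1 : Nat.Coprime (2 ^ n) (2 ^ n - 1) := by
    have : Nat.Coprime (2 ^ n - 1) (2 ^ n - 1 + 1) := Nat.coprime_self_add_right.mpr
      (Nat.coprime_one_right _)
    rw [Nat.sub_add_cancel hN] at this
    exact this.symm
  have h2 : Nat.Coprime (2 ^ n) ((2 ^ n - 1) * γ) := Nat.Coprime.mul_right h1 hγ.2
  show Nat.gcd (2 ^ n) ((2 ^ n - 1) * γ % 2 ^ n) = 1
  rw [Nat.gcd_comm, ← Nat.gcd_rec]
  exact h2

variable {G : Type*} [Group G] [Fintype G] {M : Ideal AlgInt} {p : ℕ}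

/-- `p^d m_{χψ}` lies in `p^(ht ψ)` times the local ring (normalisation by the second argument). -/
theorem memLocalRing_contribE_div_height_snd [Fact p.Prime] (hM : IsPModular p M) (x : G)
    (hx : ∃ k : ℕ, orderOf x = p ^ k) (H : Subgroup G) [Fintype H]
    (hH : H = Subgroup.centralizer ({x} : Set G))
    {b : Set (IrrCharacter H)} (hb : IsPBlock M b) {B : Set (IrrCharacter G)}
    (χ ψ : IrrCharacter G) (hψ : ψ ∈ B) :
    MemLocalRing M (((p ^ blockDefect p B : ℕ) : ℂ) *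
      contribE p H x b (χ : G → ℂ) (ψ : G → ℂ) /
        ((p ^ blockHeight p B (ψ : G → ℂ) : ℕ) : ℂ)) := by
  haveI hMp : M.IsPrime := IsPModular.isPrime hM
  have hpr : p.Prime := Fact.out
  have hX := memLocalRing_card_div_mul_contribE hM x hx H hH hb χ ψ
  set a := (Nat.card G).factorization p with ha
  set e := (charDegree (ψ : G → ℂ)).factorization p with he
  have h1 : minExp p B ≤ e := minExp_le_of_mem p hψ
  have h2 : e ≤ a := factorization_charDegree_le p ψ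
  have hd : blockDefect p B = (a - e) + blockHeight p B (ψ : G → ℂ) := by
    rw [blockDefect_eq, blockHeight_eq]; omega
  have hG0 : Nat.card G ≠ 0 := Nat.card_pos.ne'
  have hn0 : charDegree (ψ : G → ℂ) * p ^ (a - e) ≠ 0 :=
    Nat.mul_ne_zero (charDegree_ne_zero' ψ) (pow_pos hpr.pos _).ne'
  have hfac : (Nat.card G).factorization p ≤
      (charDegree (ψ : G → ℂ) * p ^ (a - e)).factorization p := by
    rw [Nat.factorization_mul (charDegree_ne_zero' ψ) (pow_pos hpr.pos _).ne',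
      hpr.factorization_pow]
    simp only [Finsupp.coe_add, Pi.add_apply, Finsupp.single_eq_same]
    omega
  have hratio := Helper78.memLocalRing_natCast_div hM hG0 hn0 hfac
  have hprod := memLocalRing_mul hratio hX
  convert hprod using 1
  have hψ1 : (ψ : G → ℂ) 1 ≠ 0 := irr_one_ne_zero ψ
  have hGC : (Nat.card G : ℂ) ≠ 0 := by exact_mod_cast hG0
  have hph : ((p ^ blockHeight p B (ψ : G → ℂ) : ℕ) : ℂ) ≠ 0 := by
    exact_mod_cast (pow_pos hpr.pos _).ne'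
  rw [hd, pow_add]
  rw [irr_one_eq_natCast ψ] at hψ1 ⊢
  push_cast at hph ⊢
  field_simp

/-- **Sambale**: `l(b) ≤ 3 ⇒ 3 k₀ + 2 ∑_{ht > 0} 2^ht ≤ 3·2^d` for a major subsection `(y, b)` of a
`2`-block (finset form). -/
theorem three_mul_card_height_le [Fact (2 : ℕ).Prime] (hM : IsPModular 2 M)
    {B : Set (IrrCharacter G)} (hB : IsPBlock M B) (H : Subgroup G) [Fintype H] (yH : H)
    (hyc : yH ∈ Subgroup.center H) (hHy : H = Subgroup.centralizer ({(yH : G)} : Set G))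
    (n : ℕ) (hn : 1 ≤ n) (hy : orderOf (yH : G) ∣ 2 ^ n) {b : Set (IrrCharacter H)}
    (hind : IsInducedBlock M H b B) (hdef : blockDefect 2 b = blockDefect 2 B)
    (hl : blockRank 2 b ≤ 3) (S T0 : Finset (IrrCharacter G))
    (hmemS : ∀ χ : IrrCharacter G, χ ∈ S ↔ χ ∈ B)
    (hmemT0 : ∀ χ : IrrCharacter G, χ ∈ T0 ↔ χ ∈ B ∧ blockHeight 2 B (χ : G → ℂ) = 0) :
    3 * T0.card + 2 * ∑ χ ∈ S \ T0, 2 ^ blockHeight 2 B (χ : G → ℂ) ≤
      3 * 2 ^ blockDefect 2 B := by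
  classical
  haveI hMp : M.IsPrime := IsPModular.isPrime hM
  have hpr : (2 : ℕ).Prime := Nat.prime_two
  have hb : IsPBlock M b := hind.1
  have hyHpow : yH ^ (2 ^ n) = 1 := by
    apply Subtype.ext
    rw [SubmonoidClass.coe_pow]
    exact orderOf_dvd_iff_pow_eq_one.mp hy
  set d := blockDefect 2 B with hd
  have hT0sub : T0 ⊆ S := by
    intro χ hχ
    rw [hmemT0] at hχ
    rw [hmemS]
    exact hχ.1
  have hT0ne : T0.Nonempty := by
    obtain ⟨ψ, hψ, hψ0⟩ := Helper78.exists_height_zero (p := 2) hMp hB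
    exact ⟨ψ, (hmemT0 ψ).mpr ⟨hψ, hψ0⟩⟩
  have facts := fun (γ : ℕ) (hγ : γ ∈ unitsRange 2 n) =>
    Helper85.Olsson.major_facts hM hB H yH hyc hHy n hy hind hdef γ hγ
  choose A μ hμ hform using fun χ ψ : IrrCharacter G =>
    exists_pow_form hM H yH hyc n hyHpow hb χ ψ
  set m : ℕ → IrrCharacter G → IrrCharacter G → ℂ := fun γ χ ψ =>
    ((2 ^ d : ℕ) : ℂ) * contribE 2 H ((yH : G) ^ γ) b (χ : G → ℂ) (ψ : G → ℂ) with hmdef
  have h2d : ((2 ^ d : ℕ) : ℂ) ≠ 0 := by exact_mod_cast (pow_pos hpr.pos d).ne'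
  have hm : ∀ γ χ ψ, m γ χ ψ = ∑ i, (A χ ψ i : ℂ) * μ χ ψ i ^ γ := by
    intro γ χ ψ
    rw [← hform χ ψ γ, hdef]
  have hsymm : ∀ γ χ ψ, conj (m γ χ ψ) = m γ ψ χ := by
    intro γ χ ψ
    simp only [hmdef]
    rw [map_mul, Complex.conj_natCast, contribE_conj_symm hM H _ hb]
  have hreal : ∀ γ χ, conj (m γ χ χ) = m γ χ χ := fun γ χ => hsymm γ χ χ
  have hvan1 : ∀ γ ∈ unitsRange 2 n, ∀ χ ψ : IrrCharacter G, χ ∉ B → m γ χ ψ = 0 := by
    intro γ hγ χ ψ hχ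
    obtain ⟨hH', hxγ, -⟩ := facts γ hγ
    simp only [hmdef]
    rw [Helper77.contribE_eq_zero_of_not_mem hM _ hxγ H hH' hind χ hχ ψ, mul_zero]
  have hvan2 : ∀ γ ∈ unitsRange 2 n, ∀ χ ψ : IrrCharacter G, ψ ∉ B → m γ χ ψ = 0 := by
    intro γ hγ χ ψ hψ
    rw [← hsymm γ ψ χ, hvan1 γ hγ ψ χ hψ, map_zero]
  have hrow : ∀ γ ∈ unitsRange 2 n, ∀ χ ∈ S,
      ∑ ψ ∈ S, m γ χ ψ * conj (m γ χ ψ) = ((2 ^ d : ℕ) : ℂ) * m γ χ χ := by
    intro γ hγ χ hχ
    obtain ⟨hH', hxγ, -⟩ := facts γ hγ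
    have h1 : ∑ ψ ∈ S, m γ χ ψ * conj (m γ χ ψ) =
        ∑ ψ : IrrCharacter G, m γ χ ψ * conj (m γ χ ψ) := by
      refine Finset.sum_subset (Finset.subset_univ _) (fun ψ _ hψ => ?_)
      rw [hmemS] at hψ
      rw [hvan2 γ hγ χ ψ hψ, zero_mul]
    rw [h1]
    have h2 := sum_contribE_row' hM _ hxγ H hH' hb χ
    simp only [hmdef]
    rw [← h2, Finset.mul_sum, Finset.mul_sum]
    refine Finset.sum_congr rfl (fun ψ _ => ?_)
    rw [map_mul, Complex.conj_natCast]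
    ring
  have htr : ∀ γ ∈ unitsRange 2 n,
      ∑ χ ∈ S, m γ χ χ = ((2 ^ d : ℕ) : ℂ) * ((blockRank 2 b : ℕ) : ℂ) := by
    intro γ hγ
    obtain ⟨hH', hxγ, -⟩ := facts γ hγ
    have h1 : ∑ χ ∈ S, m γ χ χ = ∑ χ : IrrCharacter G, m γ χ χ := by
      refine Finset.sum_subset (Finset.subset_univ _) (fun χ _ hχ => ?_)
      rw [hmemS] at hχ
      exact hvan1 γ hγ χ χ hχ
    rw [h1]
    have h2 := sum_contribE_diag' hM _ hxγ H hH' hb
    simp only [hmdef]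
    rw [← Finset.mul_sum, h2]
  have hnz2 : ∀ γ ∈ unitsRange 2 n, ∀ χ ∈ S, ∀ ψ ∈ T0, m γ χ ψ ≠ 0 := by
    intro γ hγ χ hχ ψ hψ
    obtain ⟨-, -, -, hne, -⟩ := facts γ hγ
    rw [hmemS] at hχ
    rw [hmemT0] at hψ
    exact mul_ne_zero h2d (hne χ ψ hχ hψ.1 hψ.2)
  have hnz1 : ∀ γ ∈ unitsRange 2 n, ∀ χ ∈ T0, ∀ ψ ∈ S, m γ χ ψ ≠ 0 := by
    intro γ hγ χ hχ ψ hψ
    rw [← hsymm γ ψ χ]
    intro h0
    exact hnz2 γ hγ ψ hψ χ hχ ((map_eq_zero _).mp h0)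
  have hunit : ∀ γ ∈ unitsRange 2 n, ∀ χ ∈ T0, ¬ MemLocalIdeal M (m γ χ χ) := by
    intro γ hγ χ hχ
    obtain ⟨-, -, hu, -⟩ := facts γ hγ
    rw [hmemT0] at hχ
    exact hu χ hχ.1 hχ.2
  have hht0 : ∀ χ ∈ T0, blockHeight 2 B (χ : G → ℂ) = 0 := by
    intro χ hχ
    rw [hmemT0] at hχ
    exact hχ.2
  have hval : ∀ γ ∈ unitsRange 2 n, ∀ χ ∈ S, χ ∉ T0 →
      MemLocalIdeal M (m γ χ χ / ((2 ^ blockHeight 2 B (χ : G → ℂ) : ℕ) : ℂ)) := by
    intro γ hγ χ hχ hχ0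
    rw [hmemS] at hχ
    rw [hmemT0] at hχ0
    have hht : blockHeight 2 B (χ : G → ℂ) ≠ 0 := fun h => hχ0 ⟨hχ, h⟩
    exact Cfsg.Agent.Helper32.Samb.memLocalIdeal_contribE_self_div_height hM hB H yH hyc hHy n hy
      hind hdef γ hγ χ hχ hht
  have hdiv : ∀ γ ∈ unitsRange 2 n, ∀ χ : IrrCharacter G, ∀ ψ ∈ S,
      MemLocalRing M (m γ χ ψ / ((2 ^ blockHeight 2 B (ψ : G → ℂ) : ℕ) : ℂ)) := by
    intro γ hγ χ ψ hψ
    obtain ⟨hH', hxγ, -⟩ := facts γ hγ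
    rw [hmemS] at hψ
    exact memLocalRing_contribE_div_height_snd hM _ hxγ H hH' hb χ ψ hψ
  have hoff : ∀ γ ∈ unitsRange 2 n, ∀ χ ∈ T0, ∀ ψ ∈ S,
      MemLocalRing M (m γ χ ψ * conj (m γ χ ψ) /
        ((2 ^ (2 * blockHeight 2 B (ψ : G → ℂ)) : ℕ) : ℂ)) := by
    intro γ hγ χ hχ ψ hψ
    have hγ' := conj_exponent_mem_unitsRange hn hγ
    have hc : conj (m γ χ ψ) = m ((2 ^ n - 1) * γ % 2 ^ n) χ ψ := by
      rw [hm γ χ ψ, hm _ χ ψ]
      exact conj_pow_form (pow_pos (by norm_num) n) (A χ ψ) (μ χ ψ) (hμ χ ψ) γ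
    have h1 := hdiv γ hγ χ ψ hψ
    have h2 := hdiv _ hγ' χ ψ hψ
    have h3 := memLocalRing_mul h1 h2
    rw [hc]
    convert h3 using 1
    rw [two_mul, pow_add]
    push_cast
    rw [div_mul_div_comm]
  exact three_mul_card_le_of_contrib hM n hn S T0 hT0sub hT0ne d (blockRank 2 b) hl A μ hμ m hm
    hreal hrow htr hnz1 hnz2 hunit (fun χ => blockHeight 2 B (χ : G → ℂ)) hht0 hval hoff

end Cfsg.Agent.Helper79.Samb

end
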