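import Cfsg.Agent.Helper78.Olsson.Defs
import Cfsg.Agent.Helper16.ContribMajor

/-!
S4575 (Sambale: `k(B) - l(b) ≤ 3 ⇒ k(B) ≤ 2^d`), piece (PAR): a power form in `p`-power roots of
unity lies in the local ideal iff `p` divides the sum of its coefficients.
-/

set_option autoImplicit false
set_option linter.style.haveILetI false
set_option linter.unusedSectionVars false
set_option linter.unusedVariables false

noncomputable section

namespace Cfsg.Agent.Helper79.Samb

open Cfsg
open scoped ComplexConjugate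

/-- the difference of two values of a power form lies in the local ideal -/
theorem pow_form_sub_memLocalIdeal {p : ℕ} {M : Ideal AlgInt} (hM : IsPModular p M)
    {ι : Type*} [Fintype ι] (A : ι → ℤ) (μ : ι → ℂ) {n : ℕ} (hμ : ∀ i, μ i ^ (p ^ n) = 1)
    (γ : ℕ) :
    MemLocalIdeal M (∑ i, (A i : ℂ) * μ i ^ γ - ((∑ i, A i : ℤ) : ℂ)) := by
  haveI hMp : M.IsPrime := Cfsg.Agent.Helper16.IsPModular.isPrime hM
  have h0 : ((∑ i, A i : ℤ) : ℂ) = ∑ i, (A i : ℂ) * μ i ^ 0 := by
    push_cast
    refine Finset.sum_congr rfl (fun i _ => ?_)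
    rw [pow_zero, mul_one]
  rw [h0, ← Finset.sum_sub_distrib]
  refine Cfsg.Agent.Helper16.memLocalIdeal_sum _ _ (fun i _ => ?_)
  rw [pow_zero, ← mul_sub]
  refine Cfsg.Agent.Helper16.memLocalIdeal_mul_left (Cfsg.Agent.Helper16.memLocalRing_intCast _)
    (Helper77.memLocalIdeal_sub_one_of_pow_eq_one hM (k := n) ?_)
  rw [← pow_mul, mul_comm, pow_mul, hμ i, one_pow]

/-- (PAR) a power form in `p`-power roots of unity lies in the local ideal iff `p` divides the sum
of its coefficients. -/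
theorem pow_form_memLocalIdeal_iff {p : ℕ} {M : Ideal AlgInt} (hM : IsPModular p M)
    {ι : Type*} [Fintype ι] (A : ι → ℤ) (μ : ι → ℂ) {n : ℕ} (hμ : ∀ i, μ i ^ (p ^ n) = 1)
    (γ : ℕ) :
    MemLocalIdeal M (∑ i, (A i : ℂ) * μ i ^ γ) ↔ (p : ℤ) ∣ ∑ i, A i := by
  haveI hMp : M.IsPrime := Cfsg.Agent.Helper16.IsPModular.isPrime hM
  have hd := pow_form_sub_memLocalIdeal hM A μ hμ γ
  rw [← Helper78.memLocalIdeal_intCast_iff hM]
  constructor
  · intro h
    have := Cfsg.Agent.Helper16.memLocalIdeal_sub h hd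
    rwa [sub_sub_cancel] at this
  · intro h
    have := Cfsg.Agent.Helper16.memLocalIdeal_add hd h
    rwa [sub_add_cancel] at this

end Cfsg.Agent.Helper79.Samb

end
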